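import Cfsg.Agent.Lib.BrouePuig.Isometry.Frame
import Cfsg.Agent.Lib.BrouePuig.FreeAbelian

/-!
# The frame of a block with abelian defect group and free inertial action
-/

set_option autoImplicit false
set_option maxHeartbeats 800000

namespace CfsgLib.BrouePuig.Isometry

open Cfsg CfsgLib.Blocks CfsgLib.Blocks.ResidueAlgebra CfsgLib.BrauerPairs CfsgLib.BrouePuig
open scoped Classical ComplexConjugate

universe u w

variable {p : ℕ} [Fact p.Prime] {M : Ideal AlgInt} {G : Type u} [Group G] [Fintype G]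
  {B : Set (IrrCharacter G)} {P : Subgroup G}
  {e : Set (IrrCharacter (Subgroup.centralizer (P : Set G)))}

/-- The centralizer of a product of commuting parts. -/
theorem card_centralizer_part (hp : p.Prime) {u : G} (hu : ∃ k : ℕ, orderOf u = p ^ k)
    {c : cenZ u} (hc : ¬ p ∣ orderOf c) :
    Nat.card (Subgroup.centralizer ({u * (c : G)} : Set G))
      = Nat.card (Subgroup.centralizer ({c} : Set (cenZ u))) := by
  obtain ⟨k, hk⟩ := hu
  have hcu : Commute u (c : G) := Subgroup.mem_centralizer_iff.1 c.2 u (Subgroup.mem_zpowers u)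
  have hpart : IsPPart p (u * (c : G)) u :=
    isPPart_mul hcu hk (by rwa [Subgroup.orderOf_coe])
  have hmem : ∀ h : G, h * (u * (c : G)) = u * (c : G) * h → h ∈ cenZ u := by
    intro h hh
    rw [cenZ_eq, Subgroup.mem_centralizer_singleton_iff]
    have h1 := isPPart_conj hpart h
    rw [show h * (u * (c : G)) * h⁻¹ = u * (c : G) by rw [hh, mul_inv_cancel_right]] at h1
    exact mul_inv_eq_iff_eq_mul.1 (isPPart_unique hp h1 hpart)
  refine Nat.card_congr
    { toFun := fun h => ⟨⟨(h : G), hmem h (Subgroup.mem_centralizer_singleton_iff.1 h.2)⟩, ?_⟩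
      invFun := fun h => ⟨((h : cenZ u) : G), ?_⟩
      left_inv := fun _ => rfl
      right_inv := fun _ => rfl }
  · rw [Subgroup.mem_centralizer_singleton_iff]
    refine Subtype.ext ?_
    have h2 := Subgroup.mem_centralizer_singleton_iff.1 h.2
    have h3 : Commute (h : G) u := by
      exact (Subgroup.mem_centralizer_iff.1 (hmem h h2) u (Subgroup.mem_zpowers u)).symm
    show (h : G) * (c : G) = (c : G) * (h : G)
    rw [← mul_assoc, h3.eq, mul_assoc, mul_assoc u] at h2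
    exact mul_left_cancel h2
  · rw [Subgroup.mem_centralizer_singleton_iff]
    have h1 := congrArg Subtype.val (Subgroup.mem_centralizer_singleton_iff.1 h.2)
    have h3 : Commute ((h : cenZ u) : G) u :=
      (Subgroup.mem_centralizer_iff.1 (h : cenZ u).2 u (Subgroup.mem_zpowers u)).symm
    exact h3.mul_right (show Commute ((h : cenZ u) : G) (c : G) from h1)

/-- The common character of a nilpotent block with abelian defect group, with its divisibility. -/
theorem nilpotent_regular_div (hM : IsPModular p M) (hnil : IsNilpotentBlock p M B)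
    (hmax : IsMaximalBrauerPair p M B P e) (hab : ∀ x ∈ P, ∀ y ∈ P, x * y = y * x) :
    ∃ χ₀ : IrrCharacter G, (∀ ψ ∈ B, ∀ x : G, ¬ p ∣ orderOf x → (ψ : G → ℂ) x = (χ₀ : G → ℂ) x)
      ∧ (Nat.card P : ℂ) * ∑ x : G with IsPRegular p x, (χ₀ : G → ℂ) x * conj ((χ₀ : G → ℂ) x)
        = (Nat.card G : ℂ)
      ∧ ∀ x : G, ¬ p ∣ orderOf x → MemLocalRing M ((Nat.card P : ℂ) * (χ₀ : G → ℂ) x /
          (Nat.card (Subgroup.centralizer ({x} : Set G)) : ℂ)) := by
  obtain ⟨χ₀, hreg, hnorm⟩ := nilpotent_regular hM hnil hmax hab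
  obtain ⟨-, -, -, Φ, -⟩ := exists_param hM hnil hmax
  have hcard : B.toFinset.card = Nat.card P := by
    have hinj : Function.Injective (ConjClasses.mk : P → ConjClasses P) := fun a b h => by
      obtain ⟨g, hg⟩ := isConj_iff.1 (ConjClasses.mk_eq_mk_iff_isConj.1 h)
      rwa [show g * a = a * g from Subtype.ext (hab _ g.2 _ a.2), mul_inv_cancel_right] at hg
    rw [Set.toFinset_card, ← Nat.card_eq_fintype_card, ← Nat.card_congr Φ, Char.card_irrCharacter]
    exact (Nat.card_congr (Equiv.ofBijective _ ⟨hinj, ConjClasses.mk_surjective⟩)).symm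
  have hone : ¬ p ∣ orderOf (1 : G) := by rw [orderOf_one]; exact hM.1.not_dvd_one
  have hvan : ∀ g : G, p ∣ orderOf g → ∑ ψ ∈ B.toFinset, 1 * (ψ : G → ℂ) g = 0 := by
    intro g hg
    refine (mul_eq_zero.1 ?_).resolve_right (irr_one_ne_zero χ₀)
    have h := sum_block_mul_eq_zero hM hmax.1.2.1 (pPart_spec hM.1 g)
      (isPPart_one_of_regular hone) fun hc => by
        obtain ⟨y, hgy, -, -, hy⟩ := pPart_spec hM.1 g
        rw [isConj_one_left.1 hc, one_mul] at hgy
        exact hy (by rwa [hgy])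
    rw [← Finset.sum_subset (Finset.subset_univ B.toFinset) fun ψ _ hψ => by
      rw [blockInd_of_notMem (by simpa using hψ), zero_mul]] at h
    rw [Finset.sum_mul, ← h]
    refine Finset.sum_congr rfl fun ψ hψ => ?_
    rw [blockInd_of_mem (Set.mem_toFinset.1 hψ), inv_one,
      hreg ψ (Set.mem_toFinset.1 hψ) 1 hone]
    ring
  refine ⟨χ₀, hreg, hnorm, fun x hx => ?_⟩
  have h := sum_div_centralizer_LR hM B.toFinset (a := fun _ => (1 : ℂ))
    (fun _ _ => LR.one hM) hvan x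
  rwa [Finset.sum_congr rfl fun ψ hψ => by rw [hreg ψ (Set.mem_toFinset.1 hψ) x hx, one_mul],
    Finset.sum_const, hcard, nsmul_eq_mul] at h

/-- The generalized decomposition numbers and the character at a nonidentity element. -/
theorem exists_delta_phi (hM : IsPModular p M) (hmax : IsMaximalBrauerPair p M B P e)
    (hab : ∀ x ∈ P, ∀ y ∈ P, x * y = y * x) (hfree : FreeAct P e) {w : P} (hw : w ≠ 1) :
    ∃ (δ : IrrCharacter G → ℂ) (φ : cenZ (bel hM hmax.1.1 w).1 → ℂ),
      (∀ χ (c : cenZ (bel hM hmax.1.1 w).1), ¬ p ∣ orderOf c →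
        secPart (bel hM hmax.1.1 w).1 (cenZ (bel hM hmax.1.1 w).1) (bel hM hmax.1.1 w).2 χ c
          = δ χ * φ c)
      ∧ (∀ c, ¬ p ∣ orderOf c → MemLocalRing M (φ c))
      ∧ (∀ c, ¬ p ∣ orderOf c → MemLocalRing M ((Nat.card P : ℂ) * φ c /
          (Nat.card (Subgroup.centralizer
            ({(bel hM hmax.1.1 w).1 * (c : G)} : Set G)) : ℂ)))
      ∧ (∃ c, ¬ p ∣ orderOf c ∧ φ c ≠ 0)
      ∧ (∀ χ ∈ B, δ χ ≠ 0)
      ∧ ∑ χ ∈ B.toFinset, δ χ * conj (δ χ) = (Nat.card P : ℂ)
      ∧ ((w : G) ^ 2 = 1 → ∀ χ, ∃ m : ℤ, δ χ = (m : ℂ)) := by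
  have hQP : Subgroup.zpowers (w : G) ≤ P := Subgroup.zpowers_le.2 w.2
  set a := bel hM hmax.1.1 w with ha_def
  have ha : IsElemOf p M B a := isElemOf_of_below hM hmax (bel_below hM hmax.1.1 w)
  have hnest : IsMaximalBrauerPair p M a.2 _ _ :=
    maximal_nested hM hmax hab hQP (bel_inducedIn hM hmax.1.1 hab w)
  have hnil : IsNilpotentBlock p M a.2 := nilpotent_bel hM hmax hab hfree hw
  obtain ⟨χ₀, hreg, hnorm, hdiv⟩ := nilpotent_regular_div hM hnil hnest
    (fun x hx y hy => Subtype.ext (hab _ hx _ hy))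
  have hP : Nat.card (P.subgroupOf (Subgroup.centralizer
      (Subgroup.zpowers (w : G) : Set G))) = Nat.card P :=
    Nat.card_congr (Subgroup.subgroupOfEquivOfLe (le_centralizer_of_abelian hab hQP)).toEquiv
  obtain ⟨z, hzx, hz⟩ := center_zpowers_mem a.1
  let δ : IrrCharacter G → ℂ := fun χ => ∑ ψ : IrrCharacter (cenZ a.1),
    blockInd a.2 ψ * (resMult χ ψ * centScalar ψ z)
  have hsec : ∀ χ, ∀ c : cenZ a.1, ¬ p ∣ orderOf c →
      secPart a.1 (cenZ a.1) a.2 χ c = δ χ * (χ₀ : cenZ a.1 → ℂ) c := by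
    intro χ c hc
    rw [secPart_eq_sum_mult hzx hz, Finset.sum_mul]
    refine Finset.sum_congr rfl fun ψ _ => ?_
    by_cases hψ : ψ ∈ a.2
    · exact congrArg _ (hreg ψ hψ c hc)
    · rw [blockInd_of_notMem hψ]; ring
  set S : ℂ := ∑ c : cenZ a.1 with IsPRegular p c,
    (χ₀ : cenZ a.1 → ℂ) c * conj ((χ₀ : cenZ a.1 → ℂ) c)
  have hinner : ∀ χ, secInner p χ χ a = δ χ * conj (δ χ) * S := fun χ => by
    rw [secInner, Finset.mul_sum]
    refine Finset.sum_congr rfl fun c hc => ?_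
    rw [hsec χ c (Finset.mem_filter.1 hc).2, map_mul]
    ring
  refine ⟨δ, (χ₀ : cenZ a.1 → ℂ), hsec,
    fun c _ => LR.of_isIntegral hM (irr_isIntegral χ₀ c), fun c hc => ?_,
    ⟨1, by rw [orderOf_one]; exact hM.1.not_dvd_one, irr_one_ne_zero χ₀⟩,
    fun χ hχ h0 => ?_, ?_, fun h2 χ => ?_⟩
  · have h := hdiv c hc
    rw [← card_centralizer_part hM.1 (u := a.1) (mem_elems.1 (ha.mem hM.1)).1 hc] at h
    rw [← hP]
    exact h
  · obtain ⟨c, hc, hne⟩ :=
      exists_secPart_ne_zero_of_major hM ha (major_bel hM hmax hab w) hχ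
    exact hne (by rw [hsec χ c hc, h0, zero_mul])
  · have h1 := sum_secInner hM ha
    rw [Finset.sum_congr rfl fun χ _ => hinner χ, ← Finset.sum_mul,
      blockRank_eq_one_of_nilpotent hM hnil hnest, Nat.cast_one, mul_one] at h1
    have hne : (Nat.card (cenZ a.1) : ℂ) ≠ 0 := Nat.cast_ne_zero.2 Nat.card_pos.ne'
    have hnorm' : (Nat.card P : ℂ) * S = (Nat.card (cenZ a.1) : ℂ) := by rw [← hP]; exact hnorm
    have hS : S ≠ 0 := fun h => hne (by rw [← hnorm', h, mul_zero])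
    apply mul_right_cancel₀ hS
    rw [h1, hnorm']
  · have hz2 : z ^ 2 = 1 := Subtype.ext (by
      rw [SubgroupClass.coe_pow, hzx]; exact h2)
    have hint : ∀ ψ : IrrCharacter (cenZ a.1), ∃ m : ℤ,
        blockInd a.2 ψ * (resMult χ ψ * centScalar ψ z) = (m : ℂ) := by
      intro ψ
      obtain ⟨n, hn⟩ := resMult_nat χ ψ
      by_cases hψ : ψ ∈ a.2
      · rw [blockInd_of_mem hψ, one_mul, hn]
        rcases sq_eq_one_iff.1 (centScalar_pow_eq_one ψ hz hz2) with h | h
        · exact ⟨n, by rw [h]; simp⟩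
        · exact ⟨-n, by rw [h]; simp⟩
      · exact ⟨0, by rw [blockInd_of_notMem hψ]; simp⟩
    choose m hm using hint
    exact ⟨∑ ψ, m ψ, by simp only [δ, hm, Int.cast_sum]⟩

/-- The frame given by representatives of the orbits of the inertial quotient. -/
theorem exists_frame {ι : Type w} (hM : IsPModular p M) (hmax : IsMaximalBrauerPair p M B P e)
    (hab : ∀ x ∈ P, ∀ y ∈ P, x * y = y * x) (hfree : FreeAct P e) (r : ι → P)
    (hr : ∀ i, r i ≠ 1)
    (hcov : ∀ v : P, v ≠ 1 → ∃ i, ∃ t ∈ pairStab P e, t * (v : G) * t⁻¹ = (r i : G)) :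
    ∃ F : Frame p M B (Nat.card P) ι, (∀ i, F.el i = bel hM hmax.1.1 (r i))
      ∧ (∀ i, ∀ χ ∈ B, F.delta i χ ≠ 0)
      ∧ (∀ i, ∑ χ ∈ B.toFinset, F.delta i χ * conj (F.delta i χ) = (Nat.card P : ℂ))
      ∧ ∀ i, (r i : G) ^ 2 = 1 → ∀ χ, ∃ m : ℤ, F.delta i χ = (m : ℂ) := by
  choose δ φ hsec hLR hdiv hne hne0 hsum hint using fun i =>
    exists_delta_phi hM hmax hab hfree (hr i)
  refine ⟨{
      el := fun i => bel hM hmax.1.1 (r i)
      mem := fun i => isElemOf_of_below hM hmax (bel_below hM hmax.1.1 (r i))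
      ne_one := fun i h => hr i (Subtype.ext h)
      rep := fun a ha ha1 => ?_
      delta := δ
      phi := φ
      sec := hsec
      phi_LR := hLR
      phi_div := hdiv
      phi_ne := hne }, fun i => rfl, hne0, hsum, hint⟩
  obtain ⟨y, hy⟩ := (exists_below_iff hM hmax a).2 ha
  set v : P := ⟨y * a.1 * y⁻¹, mem_of_below_act hy⟩ with hv_def
  have hv : act y a = bel hM hmax.1.1 v := eq_bel hM hmax.1.1 hy v rfl
  have hv1 : v ≠ 1 := fun h => ha1 (conj_eq_one_iff.1 (congrArg Subtype.val h))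
  obtain ⟨i, t, ht, htv⟩ := hcov v hv1
  refine ⟨t * y, i, ?_⟩
  rw [act_mul, hv, act_bel_stab hM hmax.1.1 ht v]
  exact congrArg _ (Subtype.ext htv)

end CfsgLib.BrouePuig.Isometry
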