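import Cfsg.Agent.Lib.BrouePuig.Isometry.FreeFrame
import Cfsg.Agent.S4637

/-!
# Klein four defect groups: freeness, transitivity and the signs
-/

set_option autoImplicit false
set_option maxHeartbeats 800000

namespace CfsgLib.BrouePuig.Isometry

open Cfsg CfsgLib.Blocks CfsgLib.Blocks.ResidueAlgebra CfsgLib.BrauerPairs CfsgLib.BrouePuig
open scoped Classical ComplexConjugate

universe u w

variable {M : Ideal AlgInt} {G : Type u} [Group G] [Fintype G]
  {B : Set (IrrCharacter G)} {P : Subgroup G}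
  {e : Set (IrrCharacter (Subgroup.centralizer (P : Set G)))}

omit [Fintype G] in
theorem klein_comm (hV : IsKleinFour P) : ∀ x ∈ P, ∀ y ∈ P, x * y = y * x := fun x hx y hy =>
  congrArg Subtype.val (mul_comm_of_exponent_two hV.exponent_two (⟨x, hx⟩ : P) ⟨y, hy⟩)

omit [Fintype G] in
theorem klein_sq (hV : IsKleinFour P) (x : P) : (x : G) ^ 2 = 1 := by
  haveI := hV
  rw [pow_two]
  exact congrArg Subtype.val (IsKleinFour.mul_self x)

/-- The inertial index is one or three and the block has four characters. -/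
theorem klein_index (hM : IsPModular 2 M) (hmax : IsMaximalBrauerPair 2 M B P e)
    (hV : IsKleinFour P) :
    ((Subgroup.centralizer (P : Set G)).relIndex (pairStab P e) = 1
      ∨ (Subgroup.centralizer (P : Set G)).relIndex (pairStab P e) = 3) ∧ Nat.card B = 4 := by
  haveI : Fact (Nat.Prime 2) := ⟨Nat.prime_two⟩
  have h := Cfsg.Agent.S4637.result M hM B hmax.1.2.1 P (isDefectGroup_of_isMaximal hM hmax) hV e
    ((isBrauerPairOf_iff_induced hM hmax.1.1.1 hmax.1.1.2).1 hmax.1) (pairStab P e)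
    (fun g => mem_pairStab g) _ rfl
  exact ⟨h.1, h.2.1⟩

/-- The inertial quotient acts freely on the nonidentity elements. -/
theorem klein_free (hM : IsPModular 2 M) (hmax : IsMaximalBrauerPair 2 M B P e)
    (hV : IsKleinFour P) : FreeAct P e := by
  haveI := hV
  have haut : (Subgroup.centralizer (P : Set G)).relIndex (pairStab P e)
      = Nat.card (Cfsg.autInducedBy (pairStab P e) P) :=
    index_eq_card_aut (pairStab_le_normalizer e)
  intro g hg x hx hx1 hfix
  have hgN : g ∈ Subgroup.normalizer (P : Set G) := pairStab_le_normalizer e hg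
  set α : MulAut P := Subgroup.normalizerMonoidHom P ⟨g, hgN⟩ with hα
  have hαmem : α ∈ Cfsg.autInducedBy (pairStab P e) P :=
    Subgroup.subset_closure ⟨g, hg, fun y => rfl⟩
  have hα1 : α = 1 := by
    have hord : α ^ (Subgroup.centralizer (P : Set G)).relIndex (pairStab P e) = 1 := by
      rw [haut]
      exact congrArg Subtype.val
        (pow_card_eq_one' (x := (⟨α, hαmem⟩ : Cfsg.autInducedBy (pairStab P e) P)))
    have hαx : α ⟨x, hx⟩ = ⟨x, hx⟩ := Subtype.ext hfix
    have hx1' : (⟨x, hx⟩ : P) ≠ 1 := fun h => hx1 (congrArg Subtype.val h)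
    have h2 : α ^ 2 = 1 := MulEquiv.ext fun y => by
      show α (α y) = y
      by_cases hy1 : y = 1
      · rw [hy1, map_one, map_one]
      by_cases hyx : y = ⟨x, hx⟩
      · rw [hyx, hαx, hαx]
      have huniv := IsKleinFour.eq_finset_univ hx1' hy1 (Ne.symm hyx)
      have hmem : α y ∈ ({⟨x, hx⟩ * y, ⟨x, hx⟩, y, 1} : Finset P) := by
        rw [huniv]; exact Finset.mem_univ _
      simp only [Finset.mem_insert, Finset.mem_singleton] at hmem
      rcases hmem with h | h | h | h
      · rw [h, map_mul, hαx, h, ← mul_assoc, IsKleinFour.mul_self, one_mul]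
      · exact absurd (α.injective (h.trans hαx.symm)) hyx
      · rw [h, h]
      · exact absurd (α.injective (h.trans (map_one α).symm)) hy1
    rcases (klein_index hM hmax hV).1 with h | h
    · rwa [h, pow_one] at hord
    · rwa [h, pow_succ, h2, one_mul] at hord
  refine mem_centralizer_iff_conj.2 fun y hy => ?_
  exact congrArg Subtype.val (DFunLike.congr_fun hα1 (⟨y, hy⟩ : P))

/-- A nontrivial inertial quotient is transitive on the nonidentity elements. -/
theorem klein_transitive (hM : IsPModular 2 M) (hmax : IsMaximalBrauerPair 2 M B P e)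
    (hV : IsKleinFour P) (hnot : ¬ pairStab P e ≤ Subgroup.centralizer (P : Set G))
    {w₀ : P} (hw₀ : w₀ ≠ 1) {v : P} (hv : v ≠ 1) :
    ∃ t ∈ pairStab P e, t * (v : G) * t⁻¹ = (w₀ : G) := by
  have h3 : (Subgroup.centralizer (P : Set G)).relIndex (pairStab P e) = 3 :=
    (klein_index hM hmax hV).1.resolve_left fun h => hnot (Subgroup.relIndex_eq_one.1 h)
  set T := pairStab P e
  set C := (Subgroup.centralizer (P : Set G)).subgroupOf T
  have hmem : ∀ t : T, (t : G) * (v : G) * (t : G)⁻¹ ∈ P := fun t =>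
    (Subgroup.mem_normalizer_iff.1 (pairStab_le_normalizer e t.2) _).1 v.2
  have hne : ∀ t : T, (⟨_, hmem t⟩ : P) ≠ 1 := fun t h =>
    hv (Subtype.ext (conj_eq_one_iff.1 (congrArg Subtype.val h)))
  let f : T → {x : P // x ≠ 1} := fun t => ⟨⟨_, hmem t⟩, hne t⟩
  have hf : ∀ t t' : T, f t = f t' ↔ t⁻¹ * t' ∈ C := by
    intro t t'
    rw [Subtype.ext_iff, Subtype.ext_iff]
    show (t : G) * v * (t : G)⁻¹ = (t' : G) * v * (t' : G)⁻¹ ↔
      (((t⁻¹ * t' : T) : G)) ∈ Subgroup.centralizer (P : Set G)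
    rw [show (((t⁻¹ * t' : T) : G)) = (t : G)⁻¹ * (t' : G) from rfl]
    constructor
    · intro h
      refine klein_free hM hmax hV _ (T.mul_mem (T.inv_mem t.2) t'.2) _ v.2
        (fun h1 => hv (Subtype.ext h1)) ?_
      calc (t : G)⁻¹ * (t' : G) * v * ((t : G)⁻¹ * (t' : G))⁻¹
          = (t : G)⁻¹ * ((t' : G) * v * (t' : G)⁻¹) * t := by simp [mul_assoc]
        _ = v := by rw [← h]; simp [mul_assoc]
    · intro h
      have h1 := mem_centralizer_iff_conj.1 h _ v.2
      calc (t : G) * v * (t : G)⁻¹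
          = (t : G) * (((t : G)⁻¹ * (t' : G)) * v * ((t : G)⁻¹ * (t' : G))⁻¹) * (t : G)⁻¹ := by
            rw [h1]
        _ = (t' : G) * v * (t' : G)⁻¹ := by simp [mul_assoc]
  let g : T ⧸ C → {x : P // x ≠ 1} := Quotient.lift f fun t t' h =>
    (hf t t').2 (QuotientGroup.leftRel_apply.1 h)
  have hginj : Function.Injective g := by
    rintro ⟨t⟩ ⟨t'⟩ h
    exact QuotientGroup.eq.2 ((hf t t').1 h)
  have hcard : Nat.card (T ⧸ C) = Nat.card {x : P // x ≠ 1} := by
    have h4 : Nat.card P = 4 := hV.card_four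
    rw [← Subgroup.index_eq_card, show C.index = 3 from h3, Nat.card_eq_fintype_card,
      Fintype.card_subtype_compl, Fintype.card_subtype_eq, ← Nat.card_eq_fintype_card, h4]
  obtain ⟨z, hz⟩ := (hginj.bijective_of_nat_card_le hcard.ge).2 ⟨w₀, hw₀⟩
  obtain ⟨t, rfl⟩ := QuotientGroup.mk_surjective z
  exact ⟨t, t.2, congrArg (fun x : {x : P // x ≠ 1} => ((x : P) : G)) hz⟩

/-- Four nonzero integers whose squares sum to four are signs. -/
theorem sign_of_sum_sq {α : Type*} {s : Finset α} {m : α → ℤ} (hs : s.card = 4)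
    (hne : ∀ x ∈ s, m x ≠ 0) (h4 : ∑ x ∈ s, m x * m x = 4) :
    ∀ x ∈ s, m x = 1 ∨ m x = -1 := by
  intro x hx
  have hle : ∀ y ∈ s, 1 ≤ m y * m y := fun y hy =>
    Int.add_one_le_iff.2 (mul_self_pos.2 (hne y hy))
  have h0 : ∀ y ∈ s, m y * m y - 1 = 0 :=
    (Finset.sum_eq_zero_iff_of_nonneg fun y hy => sub_nonneg.2 (hle y hy)).1 (by
      rw [Finset.sum_sub_distrib, h4, Finset.sum_const, hs]; simp)
  exact mul_self_eq_one_iff.1 (sub_eq_zero.1 (h0 x hx))

/-- Frames over a Klein four defect group have sign coefficients. -/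
theorem exists_frame_signs {ι : Type w} (hM : IsPModular 2 M)
    (hmax : IsMaximalBrauerPair 2 M B P e) (hV : IsKleinFour P) (r : ι → P) (hr : ∀ i, r i ≠ 1)
    (hcov : ∀ v : P, v ≠ 1 → ∃ i, ∃ t ∈ pairStab P e, t * (v : G) * t⁻¹ = (r i : G)) :
    haveI : Fact (Nat.Prime 2) := ⟨Nat.prime_two⟩
    ∃ F : Frame 2 M B 4 ι, (∀ i, F.el i = bel hM hmax.1.1 (r i))
      ∧ ∀ i, ∀ χ ∈ B, ∃ m : ℤ, (m = 1 ∨ m = -1) ∧ F.delta i χ = (m : ℂ) := by
  haveI : Fact (Nat.Prime 2) := ⟨Nat.prime_two⟩
  have hfr := exists_frame hM hmax (klein_comm hV) (klein_free hM hmax hV) r hr hcov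
  have h4 : Nat.card P = 4 := hV.card_four
  rw [h4] at hfr
  obtain ⟨F, hel, hne, hsum, hint⟩ := hfr
  refine ⟨F, hel, fun i χ hχ => ?_⟩
  choose m hm using hint i (klein_sq hV _)
  refine ⟨m χ, sign_of_sum_sq (s := B.toFinset) ?_ (fun ψ hψ h => ?_) ?_ χ
    (Set.mem_toFinset.2 hχ), hm χ⟩
  · rw [Set.toFinset_card, ← Nat.card_eq_fintype_card, (klein_index hM hmax hV).2]
  · exact hne i ψ (Set.mem_toFinset.1 hψ) (by rw [hm, h, Int.cast_zero])
  · have h := hsum i
    simp only [hm, map_intCast] at h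
    exact_mod_cast h

end CfsgLib.BrouePuig.Isometry
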