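import Cfsg.Prelude.Def_BlockLocal
import Cfsg.Agent.Lib.BrouePuig.Fusion
import Cfsg.Agent.Lib.Blocks.DefectTwoBound

/-!
# Frames of nonidentity subsections and perfect isometries

A frame of a block lists one representative for each conjugacy class of nonidentity Brauer elements,
together with a factorization of the contributions through one function at each representative.
Two blocks with matching frames are perfectly isometric.
-/

set_option autoImplicit false
set_option maxHeartbeats 800000

namespace CfsgLib.BrouePuig.Isometry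

open Cfsg CfsgLib.Blocks CfsgLib.Blocks.ResidueAlgebra CfsgLib.BrauerPairs CfsgLib.BrouePuig
open scoped Classical

universe u v w

variable {p : ℕ} {M : Ideal AlgInt}

/-- A combination of characters with local coefficients vanishing at the singular elements is
divisible by the orders of the centralizers. -/
theorem sum_div_centralizer_LR {H : Type u} [Group H] [Fintype H] (hM : IsPModular p M)
    (S : Finset (IrrCharacter H)) {a : IrrCharacter H → ℂ}
    (ha : ∀ η ∈ S, MemLocalRing M (a η))
    (h0 : ∀ g : H, p ∣ orderOf g → ∑ η ∈ S, a η * (η : H → ℂ) g = 0) (q : H) :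
    MemLocalRing M ((∑ η ∈ S, a η * (η : H → ℂ) q) /
      (Nat.card (Subgroup.centralizer ({q} : Set H)) : ℂ)) := by
  haveI := Fact.mk hM.1
  by_cases hq : p ∣ orderOf q
  · rw [h0 q hq, zero_div]; exact LR.zero hM
  set L := Subgroup.centralizer ({q} : Set H)
  obtain ⟨P⟩ : Nonempty (Sylow p L) := inferInstance
  have hone : ∑ v : (P : Subgroup L), ∑ η ∈ S, a η * (η : H → ℂ) (q * ((v : L) : H))
      = ∑ η ∈ S, a η * (η : H → ℂ) q := by
    rw [Finset.sum_eq_single (1 : (P : Subgroup L))]
    · simp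
    · intro v _ hv
      refine h0 _ (by_contra fun hr => hv ?_)
      obtain ⟨k, hk⟩ := IsPGroup.iff_orderOf.1 P.isPGroup' v
      rw [← Subgroup.orderOf_coe, ← Subgroup.orderOf_coe] at hk
      have hc : Commute ((v : L) : H) q := Subgroup.mem_centralizer_singleton_iff.1 (v : L).2
      have h1 := isPPart_mul hc hk hq
      rw [hc.eq] at h1
      exact Subtype.ext (Subtype.ext (isPPart_unique hM.1 h1 (isPPart_one_of_regular hr)))
    · exact fun h => absurd (Finset.mem_univ _) h
  have hP : Nat.card (P : Subgroup L) = p ^ (Nat.card L).factorization p := P.card_eq_multiplicity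
  have h1 : MemLocalRing M ((Nat.card (P : Subgroup L) : ℂ)⁻¹ *
      ∑ η ∈ S, a η * (η : H → ℂ) q) := by
    rw [← hone, Finset.sum_comm, Finset.mul_sum]
    refine LR.sum hM fun η hη => ?_
    rw [← Finset.mul_sum, mul_left_comm]
    exact LR.mul hM (ha η hη) (LR.of_isIntegral hM (DefectTwo.isIntegral_average η q P))
  have h2 : MemLocalRing M ((Nat.card (P : Subgroup L) : ℂ) / (Nat.card L : ℂ)) :=
    natCast_div_LR hM Nat.card_pos.ne' (dvd_of_eq hP.symm)
  convert LR.mul hM h1 h2 using 1
  have : (Nat.card (P : Subgroup L) : ℂ) ≠ 0 := Nat.cast_ne_zero.2 Nat.card_pos.ne'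
  field_simp

/-- One representative of each class of nonidentity Brauer elements, with the contributions
factored. -/
structure Frame (p : ℕ) (M : Ideal AlgInt) {G : Type u} [Group G] [Fintype G]
    (B : Set (IrrCharacter G)) (q : ℕ) (ι : Type w) where
  el : ι → BElem G
  mem : ∀ i, IsElemOf p M B (el i)
  ne_one : ∀ i, (el i).1 ≠ 1
  rep : ∀ a : BElem G, IsElemOf p M B a → a.1 ≠ 1 → ∃ (y : G) (i : ι), act y a = el i
  delta : ι → IrrCharacter G → ℂ
  phi : ∀ i, cenZ (el i).1 → ℂ
  sec : ∀ i χ (c : cenZ (el i).1), ¬ p ∣ orderOf c →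
    secPart (el i).1 (cenZ (el i).1) (el i).2 χ c = delta i χ * phi i c
  phi_LR : ∀ i c, ¬ p ∣ orderOf c → MemLocalRing M (phi i c)
  phi_div : ∀ i c, ¬ p ∣ orderOf c → MemLocalRing M ((q : ℂ) * phi i c /
    (Nat.card (Subgroup.centralizer ({(el i).1 * (c : G)} : Set G)) : ℂ))
  phi_ne : ∀ i, ∃ c, ¬ p ∣ orderOf c ∧ phi i c ≠ 0

variable {G : Type u} [Group G] [Fintype G] {B : Set (IrrCharacter G)} {q : ℕ} {ι : Type w}

theorem secPart_act_of_eq (hM : IsPModular p M) (χ : IrrCharacter G) (y : G) {a b : BElem G}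
    (hb : IsPBlock M a.2) (hab : act y a = b) (c : cenZ a.1) (c' : cenZ b.1)
    (h : (c' : G) = y * (c : G) * y⁻¹) :
    secPart b.1 (cenZ b.1) b.2 χ c' = secPart a.1 (cenZ a.1) a.2 χ c := by
  subst hab
  exact secPart_act hM χ y hb c c' h

/-- The values at a singular element factor through the frame. -/
theorem Frame.expand (F : Frame p M B q ι) [Fintype ι] (hM : IsPModular p M) (hB : IsPBlock M B)
    {x : G} (hx : p ∣ orderOf x) :
    ∃ f : ι → ℂ, (∀ i, MemLocalRing M (f i)) ∧
      (∀ i, MemLocalRing M ((q : ℂ) * f i /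
        (Nat.card (Subgroup.centralizer ({x} : Set G)) : ℂ))) ∧
      ∀ χ ∈ B, (χ : G → ℂ) x = ∑ i, F.delta i χ * f i := by
  obtain ⟨s, hxs, hus, ⟨k, hk⟩, hs⟩ := pPart_spec hM.1 x
  set u := pPart p x with hu_def
  clear_value u
  have hu1 : u ≠ 1 := fun h => hs (by rwa [← hxs, h, one_mul] at hx)
  have hsK : s ∈ cenZ u := by
    rw [cenZ_eq, Subgroup.mem_centralizer_singleton_iff]; exact hus.eq.symm
  set c : cenZ u := ⟨s, hsK⟩
  have hc : ¬ p ∣ orderOf c := by rwa [← Subgroup.orderOf_coe]
  have key : ∀ e ∈ blockSet M (cenZ u), ∃ fe : ι → ℂ, (∀ i, MemLocalRing M (fe i)) ∧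
      (∀ i, MemLocalRing M ((q : ℂ) * fe i /
        (Nat.card (Subgroup.centralizer ({x} : Set G)) : ℂ))) ∧
      ∀ χ ∈ B, secPart u (cenZ u) e χ c = ∑ i, F.delta i χ * fe i := by
    intro e he
    by_cases hel : IsElemOf p M B ⟨u, e⟩
    · obtain ⟨y, i, hyi⟩ := F.rep ⟨u, e⟩ hel hu1
      have hui : (F.el i).1 = y * u * y⁻¹ := (congrArg Sigma.fst hyi).symm
      have hmem : y * s * y⁻¹ ∈ cenZ (F.el i).1 := by
        rw [cenZ_eq, Subgroup.mem_centralizer_singleton_iff, hui]
        simp only [mul_assoc, inv_mul_cancel_left]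
        rw [← mul_assoc s, ← hus.eq, mul_assoc]
      set c' : cenZ (F.el i).1 := ⟨y * s * y⁻¹, hmem⟩
      have hc' : ¬ p ∣ orderOf c' := by
        rw [← Subgroup.orderOf_coe]
        show ¬ p ∣ orderOf (MulAut.conj y s)
        rwa [MulEquiv.orderOf_eq]
      refine ⟨fun j => if j = i then F.phi i c' else 0, fun j => ?_, fun j => ?_, fun χ _ => ?_⟩
      · dsimp only
        split_ifs
        · exact F.phi_LR i c' hc'
        · exact LR.zero hM
      · dsimp only
        split_ifs
        · have hcen : Nat.card (Subgroup.centralizer ({(F.el i).1 * (c' : G)} : Set G))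
              = Nat.card (Subgroup.centralizer ({x} : Set G)) := by
            have hprod : (F.el i).1 * (c' : G) = y * (u * s) * y⁻¹ := by
              show (F.el i).1 * (y * s * y⁻¹) = _
              rw [hui]; simp [mul_assoc]
            rw [hprod, card_centralizer_conj, hxs]
          have := F.phi_div i c' hc'
          rwa [hcen] at this
        · rw [mul_zero, zero_div]; exact LR.zero hM
      · simp only [mul_ite, mul_zero, Finset.sum_ite_eq', Finset.mem_univ, if_true]
        rw [← F.sec i χ c' hc']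
        exact (secPart_act_of_eq hM χ y (a := (⟨u, e⟩ : BElem G)) (b := F.el i)
          (mem_blockSet.1 he) hyi c c' rfl).symm
    · refine ⟨0, fun i => LR.zero hM, fun i => ?_, fun χ hχ => ?_⟩
      · simp only [Pi.zero_apply, mul_zero, zero_div]; exact LR.zero hM
      · rw [secPart_eq_zero_of_not_elem hM hχ hB (a := ⟨u, e⟩)
          (mem_elems.2 ⟨⟨k, hk⟩, mem_blockSet.1 he⟩) hel hc]
        simp
  choose! fe h1 h2 h3 using key
  refine ⟨fun i => ∑ e ∈ blockSet M (cenZ u), fe e i, fun i => LR.sum hM fun e he => h1 e he i,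
    fun i => ?_, fun χ hχ => ?_⟩
  · rw [Finset.mul_sum, Finset.sum_div]
    exact LR.sum hM fun e he => h2 e he i
  · have e1 := star_eq (hM := hM) (fun _ => (1 : ℂ)) χ ⟨k, hk⟩ c hc
    simp only [one_mul, star_one] at e1
    rw [show x = u * (c : G) from hxs.symm, e1,
      Finset.sum_congr rfl fun e he => h3 e he χ hχ, Finset.sum_comm]
    exact Finset.sum_congr rfl fun i _ => by rw [Finset.mul_sum]

/-- The coefficients are orthogonal to the values at regular elements. -/
theorem Frame.sum_delta_mul_regular (F : Frame p M B q ι) (hM : IsPModular p M)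
    (hB : IsPBlock M B) (i : ι) {y : G} (hy : ¬ p ∣ orderOf y) :
    ∑ χ ∈ B.toFinset, F.delta i χ * (χ : G → ℂ) y = 0 := by
  obtain ⟨c, hc, hne⟩ := F.phi_ne i
  obtain ⟨⟨k, hk⟩, hb⟩ := mem_elems.1 ((F.mem i).mem hM.1)
  refine (mul_eq_zero.1 ?_).resolve_right hne
  rw [Finset.sum_mul, Finset.sum_congr rfl (g := fun χ : IrrCharacter G =>
    (Nat.card (cenZ (F.el i).1) : ℂ)⁻¹ * ∑ d : cenZ (F.el i).1 with IsPRegular p d,
      blockKernel (F.el i).2 d c * ((χ : G → ℂ) ((F.el i).1 * (d : G)) * (χ : G → ℂ) y)) fun χ _ => by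
    rw [mul_right_comm, ← F.sec i χ c hc, secPart_eq_sum_regular hM hb _ χ hc, mul_assoc,
      Finset.sum_mul]
    exact congrArg _ (Finset.sum_congr rfl fun d _ => by ring),
    ← Finset.mul_sum, Finset.sum_comm]
  refine mul_eq_zero_of_right _ (Finset.sum_eq_zero fun d hd => ?_)
  rw [← Finset.mul_sum]
  refine mul_eq_zero_of_right _ ?_
  have hcomm : Commute (F.el i).1 (d : G) := by
    exact Subgroup.mem_centralizer_iff.1 d.2 _ (Subgroup.mem_zpowers _)
  have hdr : ¬ p ∣ orderOf (d : G) := by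
    rw [Subgroup.orderOf_coe]; exact (Finset.mem_filter.1 hd).2
  have h := sum_block_mul_eq_zero hM hB (isPPart_mul hcomm hk hdr)
    (isPPart_one_of_regular (show ¬ p ∣ orderOf y⁻¹ by rwa [orderOf_inv]))
    fun hconj => F.ne_one i (isConj_one_left.1 hconj)
  refine Eq.trans ?_ h
  refine (Finset.sum_congr rfl fun χ hχ => ?_).trans
    (Finset.sum_subset (Finset.subset_univ _) fun χ _ hχ => ?_)
  · rw [blockInd_of_mem (Set.mem_toFinset.1 hχ), one_mul, inv_inv]
  · rw [blockInd_of_notMem (by simpa using hχ), zero_mul]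

/-- Blocks with matching frames are perfectly isometric. -/
theorem isPerfect {H : Type v} [Group H] [Fintype H] {c : Set (IrrCharacter H)} [Fintype ι]
    (hM : IsPModular p M) (hB : IsPBlock M B) (hc : IsPBlock M c) (hq : q ≠ 0)
    (FG : Frame p M B q ι) (FH : Frame p M c q ι) (I : IrrCharacter H → IrrCharacter G)
    (ε : IrrCharacter H → ℤ) (s : ι → ℂ) (hbij : Set.BijOn I c B)
    (hsign : ∀ η ∈ c, ε η = 1 ∨ ε η = -1) (hs : ∀ i, s i * s i = 1)
    (hmatch : ∀ i, ∀ η ∈ c, (ε η : ℂ) * FG.delta i (I η) = s i * FH.delta i η)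
    (hgram : ∀ i j, MemLocalRing M
      ((∑ η ∈ c.toFinset, FH.delta i η * FH.delta j η) / (q : ℂ))) :
    IsPerfectIsometry p M c B I ε := by
  obtain ⟨η₀, -⟩ := IsPBlock.nonempty hM hc
  haveI : Nonempty (IrrCharacter H) := ⟨η₀⟩
  have hsum : ∀ g : IrrCharacter G → ℂ,
      ∑ η ∈ c.toFinset, g (I η) = ∑ χ ∈ B.toFinset, g χ := by
    intro g
    refine Finset.sum_bij (fun η _ => I η) (fun η hη => ?_) (fun η hη η' hη' h => ?_)
      (fun χ hχ => ?_) (fun η _ => rfl)
    · exact Set.mem_toFinset.2 (hbij.mapsTo (Set.mem_toFinset.1 hη))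
    · exact hbij.injOn (Set.mem_toFinset.1 hη) (Set.mem_toFinset.1 hη') h
    · obtain ⟨η, hη, he⟩ := hbij.surjOn (Set.mem_toFinset.1 hχ)
      exact ⟨η, Set.mem_toFinset.2 hη, he⟩
  have hμ : ∀ (x : G) (y : H), signedBijectionKernel c I ε x y
      = ∑ η ∈ c.toFinset, (ε η : ℂ) * (I η : G → ℂ) x * (η : H → ℂ) y := fun x y => by
    rw [signedBijectionKernel, finsum_mem_eq_toFinset_sum]
  have hε2 : ∀ η ∈ c, (ε η : ℂ) * (ε η : ℂ) = 1 := fun η hη => by
    rcases hsign η hη with h | h <;> rw [h] <;> norm_num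
  have hmix₁ : ∀ (x : G) (y : H), p ∣ orderOf x → ¬ p ∣ orderOf y →
      signedBijectionKernel c I ε x y = 0 := by
    intro x y hx hy
    obtain ⟨f, -, -, hf⟩ := FG.expand hM hB hx
    rw [hμ, Finset.sum_congr rfl (g := fun η : IrrCharacter H =>
      ∑ i, f i * s i * (FH.delta i η * (η : H → ℂ) y)) fun η hη => by
      rw [hf (I η) (hbij.mapsTo (Set.mem_toFinset.1 hη)), Finset.mul_sum, Finset.sum_mul]
      exact Finset.sum_congr rfl fun i _ => by
        rw [← mul_assoc ((ε η : ℂ)), hmatch i η (Set.mem_toFinset.1 hη)]; ring,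
      Finset.sum_comm]
    exact Finset.sum_eq_zero fun i _ => by
      rw [← Finset.mul_sum, FH.sum_delta_mul_regular hM hc i hy, mul_zero]
  have hmix₂ : ∀ (x : G) (y : H), ¬ p ∣ orderOf x → p ∣ orderOf y →
      signedBijectionKernel c I ε x y = 0 := by
    intro x y hx hy
    obtain ⟨f, -, -, hf⟩ := FH.expand hM hc hy
    rw [hμ, Finset.sum_congr rfl (g := fun η : IrrCharacter H =>
      ∑ i, f i * s i * (FG.delta i (I η) * (I η : G → ℂ) x)) fun η hη => by
      have hη' := Set.mem_toFinset.1 hη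
      rw [hf η hη', Finset.mul_sum]
      refine Finset.sum_congr rfl fun i _ => ?_
      have h1 : s i * FG.delta i (I η) = (ε η : ℂ) * FH.delta i η := by
        have h := congrArg (fun z => (ε η : ℂ) * s i * z) (hmatch i η hη')
        linear_combination h - (s i * FG.delta i (I η)) * hε2 η hη'
          + ((ε η : ℂ) * FH.delta i η) * hs i
      linear_combination (-(f i) * (I η : G → ℂ) x) * h1,
      Finset.sum_comm]
    exact Finset.sum_eq_zero fun i _ => by
      rw [← Finset.mul_sum, hsum fun χ => FG.delta i χ * (χ : G → ℂ) x,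
        FG.sum_delta_mul_regular hM hB i hx, mul_zero]
  have hεLR : ∀ η, MemLocalRing M (ε η : ℂ) := fun η => LR.intCast hM _
  have hsLR : ∀ i, MemLocalRing M (s i) := fun i => by
    rcases mul_self_eq_one_iff.1 (hs i) with h | h <;> rw [h]
    · exact LR.one hM
    · exact LR.neg (LR.one hM)
  refine ⟨hbij, hsign, fun x y => ?_⟩
  by_cases hx : p ∣ orderOf x
  · by_cases hy : p ∣ orderOf y
    · -- both singular
      obtain ⟨f, hf1, hf2, hf⟩ := FG.expand hM hB hx
      obtain ⟨f', hf1', hf2', hf'⟩ := FH.expand hM hc hy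
      have key : signedBijectionKernel c I ε x y = ∑ i, ∑ j, s i * f i * f' j *
          ∑ η ∈ c.toFinset, FH.delta i η * FH.delta j η := by
        rw [hμ, Finset.sum_congr rfl (g := fun η : IrrCharacter H =>
          ∑ i, ∑ j, s i * f i * f' j * (FH.delta i η * FH.delta j η)) fun η hη => by
          have hη' := Set.mem_toFinset.1 hη
          rw [hf (I η) (hbij.mapsTo hη'), Finset.mul_sum, hf' η hη', Finset.sum_mul_sum]
          refine Finset.sum_congr rfl fun i _ => Finset.sum_congr rfl fun j _ => ?_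
          rw [← mul_assoc ((ε η : ℂ)), hmatch i η hη']
          ring, Finset.sum_comm]
        refine Finset.sum_congr rfl fun i _ => ?_
        rw [Finset.sum_comm]
        exact Finset.sum_congr rfl fun j _ => (Finset.mul_sum _ _ _).symm
      have hq' : (q : ℂ) ≠ 0 := Nat.cast_ne_zero.2 hq
      refine ⟨?_, ?_, Or.inl ⟨fun h => absurd hx h, fun h => absurd hy h⟩⟩
      · rw [key, Finset.sum_div]
        refine LR.sum hM fun i _ => ?_
        rw [Finset.sum_div]
        refine LR.sum hM fun j _ => ?_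
        convert LR.mul hM (LR.mul hM (hsLR i) (LR.mul hM (hf2 i) (hf1' j))) (hgram i j) using 1
        field_simp
      · rw [key, Finset.sum_div]
        refine LR.sum hM fun i _ => ?_
        rw [Finset.sum_div]
        refine LR.sum hM fun j _ => ?_
        convert LR.mul hM (LR.mul hM (hsLR i) (LR.mul hM (hf1 i) (hf2' j))) (hgram i j) using 1
        field_simp
    · rw [hmix₁ x y hx hy, zero_div, zero_div]
      exact ⟨LR.zero hM, LR.zero hM, Or.inr rfl⟩
  · by_cases hy : p ∣ orderOf y
    · rw [hmix₂ x y hx hy, zero_div, zero_div]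
      exact ⟨LR.zero hM, LR.zero hM, Or.inr rfl⟩
    · -- both regular
      refine ⟨?_, ?_, Or.inl ⟨fun _ => hy, fun _ => hx⟩⟩
      · have e : ∀ z : G, signedBijectionKernel c I ε z y
            = ∑ χ ∈ B.toFinset, ((ε (Function.invFunOn I c χ) : ℂ) *
              ((Function.invFunOn I c χ : IrrCharacter H) : H → ℂ) y) * (χ : G → ℂ) z := by
          intro z
          rw [hμ, ← hsum]
          refine Finset.sum_congr rfl fun η hη => ?_
          rw [hbij.injOn.leftInvOn_invFunOn (Set.mem_toFinset.1 hη)]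
          ring
        rw [e]
        refine sum_div_centralizer_LR hM _ (fun χ _ => LR.mul hM (hεLR _)
          (LR.of_isIntegral hM (irr_isIntegral _ _))) (fun g hg => ?_) x
        rw [← e]
        exact hmix₁ g y hg hy
      · have e : ∀ z : H, signedBijectionKernel c I ε x z
            = ∑ η ∈ c.toFinset, ((ε η : ℂ) * (I η : G → ℂ) x) * (η : H → ℂ) z := fun z => hμ x z
        rw [e]
        refine sum_div_centralizer_LR hM _ (fun η _ => LR.mul hM (hεLR _)
          (LR.of_isIntegral hM (irr_isIntegral _ _))) (fun g hg => ?_) y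
        rw [← e]
        exact hmix₂ x g hx hg

end CfsgLib.BrouePuig.Isometry
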