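import Cfsg.Agent.Lib.BrouePuig.Isometry.KleinData
import Cfsg.Agent.S4687

/-!
# Perfect isometries between blocks with Klein four defect groups
-/

set_option autoImplicit false
set_option maxHeartbeats 800000

namespace CfsgLib.BrouePuig.Isometry

open Cfsg CfsgLib.Blocks CfsgLib.Blocks.ResidueAlgebra CfsgLib.BrauerPairs CfsgLib.BrouePuig
open scoped Classical ComplexConjugate

universe u v w

section Param

variable {p : ℕ} [Fact p.Prime] {M : Ideal AlgInt} {G : Type u} [Group G] [Fintype G]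
  {B : Set (IrrCharacter G)} {P : Subgroup G}
  {e : Set (IrrCharacter (Subgroup.centralizer (P : Set G)))}

/-- The parametrization of a nilpotent block scales the coefficients by the characters of `P`. -/
theorem exists_param_scale {ι : Type w} {q : ℕ} (hM : IsPModular p M)
    (hnil : IsNilpotentBlock p M B) (hmax : IsMaximalBrauerPair p M B P e)
    (hcard : Nat.card B = Nat.card (IrrCharacter P))
    (F : Frame p M B q ι) (r : ι → P) (hel : ∀ i, F.el i = bel hM hmax.1.1 (r i)) :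
    ∃ Φ : IrrCharacter P ≃ B, ∃ χ ∈ B, ∀ (ζ : IrrCharacter P) (i : ι),
      F.delta i (Φ ζ : IrrCharacter G) = (ζ : P → ℂ) (r i) * F.delta i χ := by
  obtain ⟨χ, hχ, h0⟩ := exists_degVal_eq_min (p := p) (IsPBlock.nonempty hM hmax.1.2.1)
  set f : IrrCharacter P → G → ℂ := fun ζ => star hM (etaOf p M P e (ζ : P → ℂ)) χ
  have hcl : ∀ ζ : IrrCharacter P, IsClassFunction P (ζ : P → ℂ) := fun ζ =>
    Char.IsIrrCharacter.isClassFunction ζ.2
  have hst : ∀ ζ : IrrCharacter P, Stable p M P e (ζ : P → ℂ) := fun ζ =>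
    stable_of_class hM hnil hmax (hcl ζ)
  have horth : ∀ ζ ζ' : IrrCharacter P,
      classInner (f ζ) (f ζ') = classInner (ζ : P → ℂ) (ζ' : P → ℂ) := by
    intro ζ ζ'
    rw [classInner_star_nil hnil hmax (hcl ζ) (hcl ζ'), Cfsg.classInner]
    congr 1
    refine Finset.sum_congr rfl fun w _ => ?_
    rw [ratio_mul_secInner_eq_one hM hnil hmax hχ h0 w, mul_one]
  have hirr : ∀ ζ, IsIrrCharacter G (f ζ) := by
    intro ζ
    refine CharDeep.GenChar.isIrrCharacter_of_norm_one
      (star_isGen (etaOf_compatible hM hmax (hst ζ)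
        (Char.IsCharacter.isGeneralizedCharacter (Char.isCharacter_irr ζ))) χ)
      (by rw [horth, Char.classInner_irr_self ζ.2]) ?_
    have h1 : f ζ 1 = (ζ : P → ℂ) 1 * (χ : G → ℂ) 1 :=
      star_etaOf_regular hmax (hst ζ) hχ (by rw [orderOf_one]; exact hM.1.not_dvd_one)
    rw [h1, irr_one_eq, irr_one_eq, ← Nat.cast_mul, Complex.natCast_re]
    exact_mod_cast Nat.mul_pos (charDegree_pos ζ) (charDegree_pos χ)
  let Φ₀ : IrrCharacter P → B := fun ζ => ⟨⟨f ζ, hirr ζ⟩, mem_of_eq_star hmax rfl⟩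
  have hinj : Function.Injective Φ₀ := fun ζ ζ' h => by
    by_contra hne
    have h1 := horth ζ ζ'
    have hf : f ζ' = f ζ := (congrArg (fun z : B => ((z : IrrCharacter G) : G → ℂ)) h).symm
    rw [hf, Char.classInner_irr_self (hirr ζ), Char.classInner_irrCharacter, if_neg hne] at h1
    exact one_ne_zero h1
  refine ⟨Equiv.ofBijective Φ₀ (hinj.bijective_of_nat_card_le hcard.le), χ, hχ, fun ζ i => ?_⟩
  obtain ⟨c, hc, hne⟩ := F.phi_ne i
  obtain ⟨hu, hb⟩ := mem_elems.1 ((F.mem i).mem hM.1)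
  have h := secPart_star (hM := hM) (etaOf p M P e (ζ : P → ℂ)) χ ⟨f ζ, hirr ζ⟩ rfl hu hb hc
  rw [F.sec i _ c hc, F.sec i _ c hc, show (⟨(F.el i).1, (F.el i).2⟩ : BElem G) = F.el i from rfl,
    hel i, etaOf_bel hM hmax.1.1 (hst ζ), ← mul_assoc] at h
  exact mul_right_cancel₀ hne h

end Param

variable {M : Ideal AlgInt} {G : Type u} [Group G] [Fintype G] {B : Set (IrrCharacter G)}
  {P : Subgroup G} {e : Set (IrrCharacter (Subgroup.centralizer (P : Set G)))}
  {H : Type v} [Group H] [Fintype H] {c : Set (IrrCharacter H)}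
  {Q : Subgroup H} {e' : Set (IrrCharacter (Subgroup.centralizer (Q : Set H)))}

/-- The isometry when the inertial quotients are nontrivial. -/
theorem klein_isometry_three (hM : IsPModular 2 M) (hmax : IsMaximalBrauerPair 2 M B P e)
    (hmax' : IsMaximalBrauerPair 2 M c Q e') (hV : IsKleinFour P) (hV' : IsKleinFour Q)
    (hnot : ¬ pairStab P e ≤ Subgroup.centralizer (P : Set G))
    (hnot' : ¬ pairStab Q e' ≤ Subgroup.centralizer (Q : Set H)) :
    ∃ (I : IrrCharacter H → IrrCharacter G) (ε : IrrCharacter H → ℤ),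
      IsPerfectIsometry 2 M c B I ε := by
  haveI : Fact (Nat.Prime 2) := ⟨Nat.prime_two⟩
  haveI : Nontrivial P := Finite.one_lt_card_iff_nontrivial.1 (by rw [hV.card_four]; norm_num)
  haveI : Nontrivial Q := Finite.one_lt_card_iff_nontrivial.1 (by rw [hV'.card_four]; norm_num)
  obtain ⟨w, hw⟩ := exists_ne (1 : P)
  obtain ⟨w', hw'⟩ := exists_ne (1 : Q)
  obtain ⟨FG, -, hG⟩ := exists_frame_signs hM hmax hV (fun _ : Unit => w) (fun _ => hw)
    fun v hv => ⟨(), klein_transitive hM hmax hV hnot hw hv⟩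
  obtain ⟨FH, -, hH⟩ := exists_frame_signs hM hmax' hV' (fun _ : Unit => w') (fun _ => hw')
    fun v hv => ⟨(), klein_transitive hM hmax' hV' hnot' hw' hv⟩
  choose! mG hG1 hG2 using hG ()
  choose! mH hH1 hH2 using hH ()
  obtain ⟨χ₀, hχ₀⟩ := IsPBlock.nonempty hM hmax.1.2.1
  obtain ⟨Φ⟩ : Nonempty (c ≃ B) := Nonempty.intro (Nat.equivFinOfCardPos
    (by rw [(klein_index hM hmax' hV').2]; norm_num) |>.trans ((finCongr (by
      rw [(klein_index hM hmax' hV').2, (klein_index hM hmax hV).2])).trans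
      (Nat.equivFinOfCardPos (by rw [(klein_index hM hmax hV).2]; norm_num)).symm))
  let I : IrrCharacter H → IrrCharacter G := fun η =>
    if h : η ∈ c then (Φ ⟨η, h⟩ : IrrCharacter G) else χ₀
  have hI : ∀ η (h : η ∈ c), I η = (Φ ⟨η, h⟩ : IrrCharacter G) := fun η h => dif_pos h
  have hbij : Set.BijOn I c B := by
    refine ⟨fun η h => by rw [hI η h]; exact (Φ _).2, fun η h η' h' he => ?_, fun χ hχ => ?_⟩
    · rw [hI η h, hI η' h'] at he
      exact congrArg Subtype.val (Φ.injective (Subtype.ext he))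
    · refine ⟨(Φ.symm ⟨χ, hχ⟩ : IrrCharacter H), (Φ.symm ⟨χ, hχ⟩).2, ?_⟩
      rw [hI _ (Φ.symm ⟨χ, hχ⟩).2, Equiv.apply_symm_apply]
  refine ⟨I, fun η => mH η * mG (I η), ?_⟩
  refine isPerfect hM hmax.1.2.1 hmax'.1.2.1 (by norm_num) FG FH I _ (fun _ => 1) hbij
    (fun η hη => ?_) (fun _ => one_mul 1) (fun i η hη => ?_) fun i j => ?_
  · rcases hH1 η hη with h | h <;> rcases hG1 (I η) (hbij.mapsTo hη) with h' | h' <;>
      simp [h, h']
  · show ((mH η * mG (I η) : ℤ) : ℂ) * FG.delta () (I η) = 1 * FH.delta () η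
    rw [hG2 _ (hbij.mapsTo hη), hH2 η hη]
    rcases hG1 (I η) (hbij.mapsTo hη) with h' | h' <;> simp [h']
  · have h : ∑ η ∈ c.toFinset, FH.delta () η * FH.delta () η = 4 := by
      rw [Finset.sum_congr rfl (g := fun _ => (1 : ℂ)) fun η hη => by
        rw [hH2 η (Set.mem_toFinset.1 hη)]
        rcases hH1 η (Set.mem_toFinset.1 hη) with h | h <;> simp [h],
        Finset.sum_const, Set.toFinset_card, ← Nat.card_eq_fintype_card,
        (klein_index hM hmax' hV').2]
      simp
    show MemLocalRing M ((∑ η ∈ c.toFinset, FH.delta () η * FH.delta () η) / ((4 : ℕ) : ℂ))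
    rw [h]
    norm_num
    exact LR.one hM

/-- The isometry when both blocks are nilpotent. -/
theorem klein_isometry_one (hM : IsPModular 2 M) (hmax : IsMaximalBrauerPair 2 M B P e)
    (hmax' : IsMaximalBrauerPair 2 M c Q e') (hV : IsKleinFour P) (hV' : IsKleinFour Q)
    (φ : Q ≃* P)
    (hle : pairStab P e ≤ Subgroup.centralizer (P : Set G))
    (hle' : pairStab Q e' ≤ Subgroup.centralizer (Q : Set H)) :
    ∃ (I : IrrCharacter H → IrrCharacter G) (ε : IrrCharacter H → ℤ),
      IsPerfectIsometry 2 M c B I ε := by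
  haveI : Fact (Nat.Prime 2) := ⟨Nat.prime_two⟩
  have hnil : IsNilpotentBlock 2 M B := (Cfsg.Agent.S4687.result 2 M hM B P e hmax
    (klein_comm hV)).2 fun x hx hs => hle ((mem_pairStab x).2 ⟨hx, hs⟩)
  have hnil' : IsNilpotentBlock 2 M c := (Cfsg.Agent.S4687.result 2 M hM c Q e' hmax'
    (klein_comm hV')).2 fun x hx hs => hle' ((mem_pairStab x).2 ⟨hx, hs⟩)
  let rH : {w : Q // w ≠ 1} → Q := fun i => i
  let rG : {w : Q // w ≠ 1} → P := fun i => φ i
  have hrG : ∀ i, rG i ≠ 1 := fun i h => i.2 ((MulEquiv.map_eq_one_iff φ).1 h)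
  obtain ⟨FG, helG, hG⟩ := exists_frame_signs hM hmax hV rG hrG fun v hv =>
    ⟨⟨φ.symm v, fun h => hv ((MulEquiv.map_eq_one_iff φ.symm).1 h)⟩, 1, (pairStab P e).one_mem,
      by simp [rG]⟩
  obtain ⟨FH, helH, hH⟩ := exists_frame_signs hM hmax' hV' rH (fun i => i.2) fun v hv =>
    ⟨⟨v, hv⟩, 1, (pairStab Q e').one_mem, by simp [rH]⟩
  have hirr4 : ∀ {K : Type _} [Group K] [Fintype K] (R : Subgroup K), IsKleinFour R →
      Nat.card (IrrCharacter R) = 4 := by
    intro K _ _ R hR
    have hinj : Function.Injective (ConjClasses.mk : R → ConjClasses R) := fun a b h => by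
      obtain ⟨g, hg⟩ := isConj_iff.1 (ConjClasses.mk_eq_mk_iff_isConj.1 h)
      rwa [show g * a = a * g from Subtype.ext (klein_comm hR _ g.2 _ a.2),
        mul_inv_cancel_right] at hg
    rw [Char.card_irrCharacter,
      ← Nat.card_congr (Equiv.ofBijective _ ⟨hinj, ConjClasses.mk_surjective⟩)]
    exact hR.card_four
  obtain ⟨ΦG, χG, hχG, hΦG⟩ := exists_param_scale hM hnil hmax
    (by rw [(klein_index hM hmax hV).2]
        exact (Nat.card_congr (irrEquiv φ)).trans (hirr4 Q hV') |>.symm) FG rG helG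
  obtain ⟨ΦH, χH, hχH, hΦH⟩ := exists_param_scale hM hnil' hmax'
    (by rw [(klein_index hM hmax' hV').2, hirr4 Q hV']) FH rH helH
  let ψ : c ≃ B := ΦH.symm.trans ((irrEquiv φ.symm).trans ΦG)
  let I : IrrCharacter H → IrrCharacter G := fun η =>
    if h : η ∈ c then (ψ ⟨η, h⟩ : IrrCharacter G) else χG
  have hI : ∀ η (h : η ∈ c), I η = (ψ ⟨η, h⟩ : IrrCharacter G) := fun η h => dif_pos h
  have hbij : Set.BijOn I c B := by
    refine ⟨fun η h => by rw [hI η h]; exact (ψ _).2, fun η h η' h' he => ?_, fun χ hχ => ?_⟩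
    · rw [hI η h, hI η' h'] at he
      exact congrArg Subtype.val (ψ.injective (Subtype.ext he))
    · refine ⟨(ψ.symm ⟨χ, hχ⟩ : IrrCharacter H), (ψ.symm ⟨χ, hχ⟩).2, ?_⟩
      rw [hI _ (ψ.symm ⟨χ, hχ⟩).2, Equiv.apply_symm_apply]
  choose! mG hG1 hG2 using hG
  choose! mH hH1 hH2 using hH
  refine ⟨I, fun _ => 1, ?_⟩
  refine isPerfect hM hmax.1.2.1 hmax'.1.2.1 (by norm_num) FG FH I _
    (fun i => (mG i χG : ℂ) * (mH i χH : ℂ)) hbij (fun η _ => Or.inl rfl) (fun i => ?_)
    (fun i η hη => ?_) fun i j => ?_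
  · rcases hG1 i χG hχG with h | h <;> rcases hH1 i χH hχH with h' | h' <;> simp [h, h']
  · obtain ⟨ζ, hζ⟩ := ΦH.surjective ⟨η, hη⟩
    have h1 : I η = (ΦG (irrEquiv φ.symm ζ) : IrrCharacter G) := by
      rw [hI η hη, ← hζ]
      simp [ψ]
    have h2 : η = (ΦH ζ : IrrCharacter H) := (congrArg Subtype.val hζ).symm
    rw [h1, h2, hΦG, hΦH, hG2 i χG hχG, hH2 i χH hχH, irrEquiv_apply,
      show φ.symm (rG i) = rH i from φ.symm_apply_apply _]
    rcases hH1 i χH hχH with h' | h' <;> simp [h'] <;> ring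
  · have e1 : ∑ η ∈ c.toFinset, FH.delta i η * FH.delta j η
        = ∑ η : c, FH.delta i η * FH.delta j η :=
      Finset.sum_subtype _ (fun _ => Set.mem_toFinset) fun η => FH.delta i η * FH.delta j η
    have hconj : ∀ ζ : IrrCharacter Q,
        conj ((ζ : Q → ℂ) (rH j)) = (ζ : Q → ℂ) (rH j) := by
      intro ζ
      rw [conj_irr, show (rH j)⁻¹ = rH j from
        inv_eq_of_mul_eq_one_left (by haveI := hV'; exact IsKleinFour.mul_self _)]
    rw [e1, ← Equiv.sum_comp ΦH, Finset.sum_congr rfl fun ζ _ => by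
      rw [hΦH ζ i, hΦH ζ j, mul_mul_mul_comm, ← hconj ζ],
      ← Finset.sum_mul, Char.sum_irr_mul_conj]
    have hcen : Nat.card (Subgroup.centralizer ({rH j} : Set Q)) = 4 := by
      rw [show Subgroup.centralizer ({rH j} : Set Q) = ⊤ from eq_top_iff.2 fun x _ =>
        Subgroup.mem_centralizer_singleton_iff.2 (Subtype.ext (klein_comm hV' _ x.2 _ (rH j).2)),
        Subgroup.card_top, hV'.card_four]
    rw [hH2 i χH hχH, hH2 j χH hχH, hcen]
    split_ifs
    · rw [mul_div_cancel_left₀ _ (by norm_num)]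
      exact LR.mul hM (LR.intCast hM _) (LR.intCast hM _)
    · rw [zero_mul, zero_div]; exact LR.zero hM

/-- A maximal pair of the correspondent gives one of the block. -/
theorem exists_pair_normalizer {p : ℕ} [Fact p.Prime] (hM : IsPModular p M)
    (hPD : IsDefectGroup p M B P) {c : Set (IrrCharacter (Subgroup.normalizer (P : Set G)))}
    (hc : IsInducedBlock M (Subgroup.normalizer (P : Set G)) c B)
    {g' : Set (IrrCharacter (Subgroup.centralizer
      (P.subgroupOf (Subgroup.normalizer (P : Set G)) : Set (Subgroup.normalizer (P : Set G)))))}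
    (hg' : IsBrauerPairOf p M c (P.subgroupOf (Subgroup.normalizer (P : Set G))) g') :
    ∃ (f : Set (IrrCharacter (Subgroup.centralizer (P : Set G))))
      (hle : Subgroup.centralizer (P : Set G) ≤ Subgroup.normalizer (P : Set G))
      (hiff : ∀ x : Subgroup.normalizer (P : Set G), (x : G) ∈ Subgroup.centralizer (P : Set G)
        ↔ x ∈ Subgroup.centralizer
          (P.subgroupOf (Subgroup.normalizer (P : Set G)) : Set (Subgroup.normalizer (P : Set G)))),
      IsMaximalBrauerPair p M B P f ∧ irrEquiv (nestIso hle hiff) '' f = g' := by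
  have hPN : P ≤ (Subgroup.normalizer (P : Set G)) := Subgroup.le_normalizer
  have hle : Subgroup.centralizer (P : Set G) ≤ (Subgroup.normalizer (P : Set G)) := Subgroup.centralizer_le_normalizer _
  have hiff : ∀ x : (Subgroup.normalizer (P : Set G)), (x : G) ∈ Subgroup.centralizer (P : Set G)
      ↔ x ∈ Subgroup.centralizer
        (P.subgroupOf (Subgroup.normalizer (P : Set G)) : Set (Subgroup.normalizer (P : Set G))) :=
    fun x => (mem_centralizer_subgroupOf_iff hPN x).symm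
  set φ := nestIso hle hiff
  refine ⟨irrEquiv φ.symm '' g', hle, hiff,
    isMaximal_of_defectGroup hM hPD ⟨⟨isPGroup_defectGroup hPD, isPBlock_image _ hg'.1.2⟩,
      hc.2.1, ?_⟩, ?_⟩
  · rintro _ ⟨θ, hθ, rfl⟩
    obtain ⟨ξ, hξ⟩ := IsPBlock.nonempty hM hg'.2.1
    obtain ⟨χ, hχ⟩ := IsPBlock.nonempty hM hc.2.1
    have hind := (isBrauerPairOf_iff_induced hM hg'.1.1 hg'.1.2).1 hg'
    have h1 := IsInducedBlock.omega_congr hM hind hθ hξ
      (resFun_isClassFunction (Subgroup.normalizer (P : Set G)) (blockCoeff_isClassFunction B))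
      fun x => blockCoeff_LR hM hc.2.1 (x : G)
    have h2 := IsInducedBlock.omega_congr hM hc hξ hχ (blockCoeff_isClassFunction B)
      (blockCoeff_LR hM hc.2.1)
    have h3 := LI.trans hM h1 h2
    rw [omega_blockCoeff, blockInd_of_mem hχ] at h3
    rw [brauerOmega_eq_omega]
    convert h3 using 2
    simp only [omega, irrEquiv_apply, map_one]
    congr 1
    exact Fintype.sum_equiv φ.symm.toEquiv _ _ fun x => rfl
  · rw [← Set.image_comp]
    refine (Set.image_congr fun χ _ => ?_).trans (Set.image_id g')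
    exact Subtype.ext (funext fun k => by simp [irrEquiv_apply, φ])

end CfsgLib.BrouePuig.Isometry
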